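import Cfsg.Agent.H967.Sph.Count

/-!
# The spherical machine for parabolic subgroups of higher corank: states (helper423, for S4612)

As `H967.Sph.Table`, `State`, `Oper`, `Count`, with the vector `e_j` replaced by a vector `c ≥ 0`; the parabolic
subgroup is that of the nodes `i` with `c i = 0`.
-/

set_option autoImplicit false
set_option linter.unusedSectionVars false

namespace Cfsg.Agent.H423.PQ.Co

open CoxeterSystem Cfsg.Agent.ChevalleyStructure.CoxeterGeom Cfsg.Agent.Tits.Roots Cfsg.Agent.Tits.Core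
  Cfsg.Agent.Tits.Exchange Cfsg.Agent.Nodes.Reps Cfsg.Agent.Nodes.BNOf Cfsg.Agent.Nodes.Bruhat
  Cfsg.Agent.Nodes.LeviDec
open Cfsg.Agent.H967.Sph (wOf cell_wOf cell_pos cell_neg opT opT_apply opT_left sum_opT eq_sum_sr)

/-- The states `vec s : I → ℤ` are the vectors `k ↦ ∑ j, c j * (w α_k)_j`, `w ∈ W`; `o` is the state of `w = 1`; `st i` is
right multiplication by `s_i`; `cls` numbers the classes under the `st i`, `c i = 0`. -/
structure Tab {I : Type*} [DecidableEq I] (A : I → I → ℤ) (c : I → ℤ) (N m : ℕ) where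
  nn : ∀ i, 0 ≤ c i
  vec : Fin N → I → ℤ
  st : I → Fin N → Fin N
  cls : Fin N → Fin m
  o : Fin N
  vec_o : ∀ k, vec o k = c k
  vec_inj : ∀ a b, vec a = vec b → a = b
  vec_st : ∀ i a k, vec (st i a) k = vec a k - A i k * vec a i
  path : Fin N → List I
  path_spec : ∀ a, (path a).foldl (fun b i => st i b) o = a
  cls_st : ∀ i, c i = 0 → ∀ a, cls (st i a) = cls a
  crep : Fin m → Fin N
  cpath : Fin N → List I
  cpath_ne : ∀ a, ∀ i ∈ cpath a, c i = 0
  cpath_spec : ∀ a, (cpath a).foldl (fun b i => st i b) (crep (cls a)) = a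

/-- The operator `T_i` on the functions of the state. -/
def Tab.tau {I : Type*} [DecidableEq I] {A : I → I → ℤ} {c : I → ℤ} {N m : ℕ} (t : Tab A c N m) (q : I → ℕ) (i : I)
    (φ : Fin N → ℚ) (s : Fin N) : ℚ :=
  if t.vec s i < 0 then φ (t.st i s) + ((q i : ℚ) - 1) * φ s else (q i : ℚ) * φ (t.st i s)

section State

variable {I W : Type*} [Fintype I] [DecidableEq I] [Group W] {M : CoxeterMatrix I}
  (cs : CoxeterSystem M W) {A : I → I → ℤ} (h : IsCartan M A) {c : I → ℤ} {N m : ℕ}

/-- The weight vector of `w`. -/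
def lam (c : I → ℤ) (w : W) (k : I) : ℤ := ∑ j, c j * rep cs h w (sr k) j

theorem lam_one : lam cs h c 1 = c := by
  funext k
  rw [lam, Finset.sum_eq_single k]
  · rw [map_one, Module.End.one_apply, sr_self, mul_one]
  · intro j _ hj
    rw [map_one, Module.End.one_apply, sr_ne hj, mul_zero]
  · exact fun h => absurd (Finset.mem_univ _) h

theorem lam_mul_simple (w : W) (i k : I) :
    lam cs h c (w * cs.simple i) k = lam cs h c w k - A i k * lam cs h c w i := by
  have h1 : ∀ j, rep cs h (w * cs.simple i) (sr k) j = rep cs h w (sr k) j - A i k * rep cs h w (sr i) j := by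
    intro j
    rw [rep_mul_apply, rep_simple_eq, map_sub, map_smul, Pi.sub_apply, Pi.smul_apply, smul_eq_mul, sr,
      pairing_single, mul_one]
  rw [lam, Finset.sum_congr rfl fun j _ => by rw [h1 j], lam, lam, Finset.mul_sum, ← Finset.sum_sub_distrib]
  exact Finset.sum_congr rfl fun j _ => by ring

/-- left multiplication by `s_i`, `c i = 0`, does not change the weight -/
theorem rep_apply_of_mem {v : W} (hv : v ∈ WJ cs {i | c i = 0}) (x : I → ℤ) :
    ∑ j, c j * rep cs h v x j = ∑ j, c j * x j := by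
  obtain ⟨ω, hω, rfl⟩ := exists_word_of_mem_WJ cs hv
  clear hv
  induction ω with
  | nil => rw [wordProd_nil, map_one]; rfl
  | cons i ω ih =>
    rw [← ih fun k hk => hω k (by simp [hk])]
    refine Finset.sum_congr rfl fun j _ => ?_
    rw [wordProd_cons, rep_mul_apply]
    by_cases hj : j = i
    · subst hj
      have h1 : c j = 0 := hω j (by simp)
      rw [h1, zero_mul, zero_mul]
    · rw [rep_simple_apply cs h i _ j hj]

theorem lam_mul_left {v : W} (hv : v ∈ WJ cs {i | c i = 0}) (w : W) : lam cs h c (v * w) = lam cs h c w := by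
  funext k
  have h1 := rep_apply_of_mem cs h hv (rep cs h w (sr k))
  rw [lam, lam, ← h1]
  exact Finset.sum_congr rfl fun j _ => by rw [rep_mul_apply]

/-- an element fixing the weight lies in `W_J`, `J = {i | c i = 0}` -/
theorem mem_WJ_of_fix (hc : ∀ i, 0 ≤ c i) : ∀ {u : W}, (∀ x, ∑ j, c j * rep cs h u x j = ∑ j, c j * x j) →
    u ∈ WJ cs {i | c i = 0} := by
  intro u
  induction hn : cs.length u using Nat.strong_induction_on generalizing u with
  | _ l ih =>
  intro hu
  by_cases hu1 : u = 1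
  · rw [hu1]; exact one_mem _
  obtain ⟨i, hi⟩ := cs.exists_leftDescent_of_ne_one hu1
  have hi' : cs.length (cs.simple i * u) < cs.length u := hi
  have hij : c i = 0 := by
    have hneg : rep cs h u⁻¹ (sr i) ≤ 0 := by
      refine nonpos_of_lt cs h u⁻¹ i ?_
      rw [← cs.length_inv u, ← cs.length_inv (cs.simple i * u), mul_inv_rev, inv_simple] at hi'
      exact hi'
    have h1 := hu (rep cs h u⁻¹ (sr i))
    rw [rep_apply_inv] at h1
    have h2 : ∑ j, c j * (sr i : I → ℤ) j = c i := by
      rw [Finset.sum_eq_single i]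
      · rw [sr_self, mul_one]
      · intro j _ hj
        rw [sr_ne hj, mul_zero]
      · exact fun h => absurd (Finset.mem_univ _) h
    have h3 : ∑ j, c j * rep cs h u⁻¹ (sr i) j ≤ 0 :=
      Finset.sum_nonpos fun j _ => mul_nonpos_of_nonneg_of_nonpos (hc j) (hneg j)
    have h4 := hc i
    omega
  have h1 := ih (cs.length (cs.simple i * u)) (by omega) (u := cs.simple i * u) rfl (fun x => by
    rw [← hu x]
    refine Finset.sum_congr rfl fun j _ => ?_
    rw [rep_mul_apply]
    by_cases hj : j = i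
    · subst hj
      rw [hij, zero_mul, zero_mul]
    · rw [rep_simple_apply cs h i _ j hj])
  have h2 : u = cs.simple i * (cs.simple i * u) := by rw [← mul_assoc, simple_mul_simple_self, one_mul]
  rw [h2]
  exact mul_mem (simple_mem_WJ cs hij) h1

theorem mem_WJ_of_lam (hc : ∀ i, 0 ≤ c i) {w w' : W} (he : lam cs h c w = lam cs h c w') :
    w' * w⁻¹ ∈ WJ cs {i | c i = 0} := by
  apply mem_WJ_of_fix cs h hc
  have h1 : ∀ y : I → ℤ, ∑ j, c j * rep cs h w' y j = ∑ j, c j * rep cs h w y j := by
    intro y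
    have key : ∀ v : W, ∑ j, c j * rep cs h v y j = ∑ k, y k * lam cs h c v k := by
      intro v
      have h2 : ∀ j, rep cs h v y j = ∑ k, y k * rep cs h v (sr k) j := by
        intro j
        conv_lhs => rw [eq_sum_sr y]
        rw [map_sum, Finset.sum_apply]
        refine Finset.sum_congr rfl fun k _ => ?_
        rw [map_smul, Pi.smul_apply, smul_eq_mul]
      rw [Finset.sum_congr rfl fun j _ => by rw [h2 j, Finset.mul_sum], Finset.sum_comm]
      refine Finset.sum_congr rfl fun k _ => ?_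
      rw [lam, Finset.mul_sum]
      exact Finset.sum_congr rfl fun j _ => by ring
    rw [key, key, he]
  intro x
  have h2 : ∀ j, rep cs h (w' * w⁻¹) x j = rep cs h w' (rep cs h w⁻¹ x) j := fun j => by rw [rep_mul_apply]
  rw [Finset.sum_congr rfl fun j _ => by rw [h2 j], h1, rep_apply_inv]

namespace Tab

variable (t : Tab A c N m)

theorem exists_state (w : W) : ∃ s, t.vec s = lam cs h c w := by
  obtain ⟨ω, rfl⟩ := cs.wordProd_surjective w
  induction ω using List.reverseRecOn with
  | nil => exact ⟨t.o, by rw [wordProd_nil, lam_one]; exact funext t.vec_o⟩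
  | append_singleton ω i ih =>
    obtain ⟨s, hs⟩ := ih
    refine ⟨t.st i s, ?_⟩
    rw [wordProd_append, wordProd_singleton]
    funext k
    rw [t.vec_st, lam_mul_simple, hs]

/-- The state of `w`. -/
noncomputable def sw (w : W) : Fin N := (t.exists_state cs h w).choose

theorem vec_sw (w : W) : t.vec (t.sw cs h w) = lam cs h c w := (t.exists_state cs h w).choose_spec

theorem sw_eq {w : W} {s : Fin N} (hs : t.vec s = lam cs h c w) : t.sw cs h w = s :=
  t.vec_inj _ _ (by rw [vec_sw, hs])

theorem sw_one : t.sw cs h 1 = t.o := t.sw_eq cs h (by rw [lam_one]; exact funext t.vec_o)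

theorem sw_mul_simple (w : W) (i : I) : t.sw cs h (w * cs.simple i) = t.st i (t.sw cs h w) := by
  apply t.sw_eq cs h
  funext k
  rw [t.vec_st, lam_mul_simple, vec_sw]

theorem sw_mul_left {v : W} (hv : v ∈ WJ cs {i | c i = 0}) (w : W) : t.sw cs h (v * w) = t.sw cs h w :=
  t.sw_eq cs h (by rw [vec_sw, lam_mul_left cs h hv])

theorem mem_WJ_of_sw {w w' : W} (he : t.sw cs h w = t.sw cs h w') : w' * w⁻¹ ∈ WJ cs {i | c i = 0} := by
  apply mem_WJ_of_lam cs h t.nn
  rw [← vec_sw cs h t, ← vec_sw cs h t, he]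

theorem sw_wordProd (w : W) (ω : List I) :
    t.sw cs h (w * cs.wordProd ω) = ω.foldl (fun b i => t.st i b) (t.sw cs h w) := by
  induction ω generalizing w with
  | nil => rw [wordProd_nil, mul_one, List.foldl_nil]
  | cons i ω ih => rw [wordProd_cons, ← mul_assoc, ih, List.foldl_cons, sw_mul_simple]

theorem exists_sw (s : Fin N) : ∃ w, t.sw cs h w = s :=
  ⟨cs.wordProd (t.path s), by rw [← one_mul (cs.wordProd _), sw_wordProd, sw_one, t.path_spec]⟩

include cs h in
theorem st_st (i : I) (s : Fin N) : t.st i (t.st i s) = s := by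
  obtain ⟨w, rfl⟩ := t.exists_sw cs h s
  rw [← sw_mul_simple, ← sw_mul_simple, simple_mul_simple_cancel_right]

include cs h in
theorem vec_st_self (i : I) (s : Fin N) : t.vec (t.st i s) i = - t.vec s i := by
  rw [t.vec_st, h.diag]; ring

include cs h in
theorem st_eq_of_zero {i : I} {s : Fin N} (h0 : t.vec s i = 0) : t.st i s = s :=
  t.vec_inj _ _ (by funext k; rw [t.vec_st, h0, mul_zero, sub_zero])

/-- states of the same class are reached from the representative by letters of `J` -/
theorem exists_word {k : Fin m} {w : W} (hw : t.sw cs h w = t.crep k) {w' : W} (hc : t.cls (t.sw cs h w') = k) :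
    ∃ v ∈ WJ cs {i | c i = 0}, ∃ u ∈ WJ cs {i | c i = 0}, w' = u * w * v := by
  have h1 := t.cpath_spec (t.sw cs h w')
  rw [hc, ← hw, ← sw_wordProd] at h1
  refine ⟨_, wordProd_mem_WJ cs (t.cpath_ne (t.sw cs h w')), _, t.mem_WJ_of_sw cs h h1, ?_⟩
  group

end Tab

end State

section Group

variable {I W Y : Type*} [Fintype I] [DecidableEq I] [Group W] [Finite W] [Group Y] {M : CoxeterMatrix I}
  {cs : CoxeterSystem M W} {A : I → I → ℤ} {h : IsCartan M A} {p : ℕ} {T : Subgroup Y} {n : I → Y}
  {X : (I → ℤ) → Subgroup Y} (R : RGD cs h p T n X) (hG : GG cs h T X = ⊤) {c : I → ℤ} {N m : ℕ} (t : Tab A c N m)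

/-- The state of `g`. -/
noncomputable def stY (g : Y) : Fin N := t.sw cs h (wOf R hG g)

theorem stY_eq {w : W} {g : Y} (hg : Cell R.nsys cs h X w g) : stY R hG t g = t.sw cs h w := by
  rw [stY, Cell.unique R (cell_wOf R hG g) hg]

theorem stY_mul_right_B (g : Y) {b : Y} (hb : b ∈ RGD.B cs h T X) : stY R hG t (g * b) = stY R hG t g :=
  stY_eq R hG t ((cell_wOf R hG g).mul_right hb)

/-- the weight vector of a state -/
theorem vec_stY (g : Y) (i : I) : t.vec (stY R hG t g) i = ∑ j, c j * rep cs h (wOf R hG g) (sr i) j := by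
  rw [stY, Tab.vec_sw]
  rfl

theorem vec_nonneg {g : Y} {i : I} (h0 : 0 ≤ rep cs h (wOf R hG g) (sr i)) : 0 ≤ t.vec (stY R hG t g) i := by
  rw [vec_stY]
  exact Finset.sum_nonneg fun j _ => mul_nonneg (t.nn j) (h0 j)

theorem vec_nonpos {g : Y} {i : I} (h0 : rep cs h (wOf R hG g) (sr i) ≤ 0) : t.vec (stY R hG t g) i ≤ 0 := by
  rw [vec_stY]
  exact Finset.sum_nonpos fun j _ => mul_nonpos_of_nonneg_of_nonpos (t.nn j) (h0 j)

theorem stY_pos {g : Y} {i : I} (h0 : 0 ≤ rep cs h (wOf R hG g) (sr i)) {x : Y} (hx : x ∈ X (sr i)) :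
    stY R hG t (g * x * n i) = t.st i (stY R hG t g) := by
  rw [stY_eq R hG t (cell_pos R h0 (cell_wOf R hG g) hx), Tab.sw_mul_simple, stY]

theorem stY_neg {g : Y} {i : I} (h0 : rep cs h (wOf R hG g) (sr i) ≤ 0) :
    ∃ x₀ ∈ X (sr i), stY R hG t (g * x₀ * n i) = t.st i (stY R hG t g) ∧
      ∀ x ∈ X (sr i), x ≠ x₀ → stY R hG t (g * x * n i) = stY R hG t g := by
  obtain ⟨x₀, hx₀, h1, h2⟩ := cell_neg R h0 (cell_wOf R hG g)
  refine ⟨x₀, hx₀, ?_, fun x hx hne => ?_⟩
  · rw [stY_eq R hG t h1, Tab.sw_mul_simple, stY]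
  · rw [stY_eq R hG t (h2 x hx hne), stY]

/-- the elements of state `o` are the elements of the parabolic subgroup -/
theorem stY_eq_o_iff {g : Y} : stY R hG t g = t.o ↔ g ∈ PJ cs h T X {i | c i = 0} := by
  rw [cell_mem_PJ_iff R (cell_wOf R hG g), stY]
  constructor
  · intro h1
    rw [← Tab.sw_one cs h t] at h1
    have h2 := Tab.mem_WJ_of_sw cs h t h1.symm
    rwa [inv_one, mul_one] at h2
  · intro h1
    rw [← Tab.sw_one cs h t, ← mul_one (wOf R hG g), Tab.sw_mul_left cs h t h1]

/-- left multiplication by the parabolic subgroup does not change the state -/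
theorem stY_mul_left {y : Y} (hy : y ∈ PJ cs h T X {i | c i = 0}) (g : Y) : stY R hG t (y * g) = stY R hG t g := by
  -- first for generators
  have key : ∀ (v : W), v ∈ WJ cs {i | c i = 0} → ∀ (k : Y), Rp cs R.nsys v k → ∀ g, stY R hG t (k * g) = stY R hG t g := by
    intro v hv
    obtain ⟨ω, hω, rfl⟩ := exists_word_of_mem_WJ cs hv
    clear hv
    induction ω with
    | nil =>
      intro k hk g
      rw [wordProd_nil] at hk
      exact stY_eq R hG t ((cell_wOf R hG g).mul_left (RGD.T_le_B hk.mem_of_one))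
    | cons i ω ih =>
      intro k hk g
      rw [wordProd_cons] at hk
      have hi : c i = 0 := hω i (by simp)
      have h1 : Rp cs R.nsys (cs.wordProd ω) ((n i)⁻¹ * k) := by
        have := (rp_simple cs R.nsys i).inv.mul hk
        rwa [inv_simple, simple_mul_simple_cancel_left] at this
      have h2 := ih (fun l hl => hω l (by simp [hl])) _ h1 g
      have h3 : k * g = n i * ((n i)⁻¹ * k * g) := by group
      rw [h3, ← h2]
      generalize (n i)⁻¹ * k * g = g'
      have h4 : cs.simple i ∈ WJ cs {i | c i = 0} := simple_mem_WJ cs hi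
      rcases Cell.simple_mul R (cell_of_rp (rp_simple cs R.nsys i)) (cell_wOf R hG g') with h5 | ⟨-, h5⟩
      · rw [stY_eq R hG t h5, Tab.sw_mul_left cs h t h4, stY]
      · rw [stY_eq R hG t h5, stY]
  obtain ⟨v, hv, b₁, hb₁, k, hk, b₂, hb₂, rfl⟩ := (mem_PJ_iff_cell R).1 hy
  have h1 : ∀ b ∈ RGD.B cs h T X, ∀ g, stY R hG t (b * g) = stY R hG t g := fun b hb g =>
    stY_eq R hG t ((cell_wOf R hG g).mul_left hb)
  rw [mul_assoc, mul_assoc, h1 b₁ hb₁, key v hv k hk, h1 b₂ hb₂]

/-- right multiplication by the parabolic subgroup does not change the class of the state -/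
theorem cls_mul_right {y : Y} (hy : y ∈ PJ cs h T X {i | c i = 0}) (g : Y) :
    t.cls (stY R hG t (g * y)) = t.cls (stY R hG t g) := by
  have key : ∀ (v : W), v ∈ WJ cs {i | c i = 0} → ∀ (k : Y), Rp cs R.nsys v k → ∀ g,
      t.cls (stY R hG t (g * k)) = t.cls (stY R hG t g) := by
    intro v hv
    obtain ⟨ω, hω, rfl⟩ := exists_word_of_mem_WJ cs hv
    clear hv
    induction ω with
    | nil =>
      intro k hk g
      rw [wordProd_nil] at hk
      rw [stY_mul_right_B R hG t g (RGD.T_le_B hk.mem_of_one)]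
    | cons i ω ih =>
      intro k hk g
      rw [wordProd_cons] at hk
      have hi : c i = 0 := hω i (by simp)
      have h1 : Rp cs R.nsys (cs.wordProd ω) ((n i)⁻¹ * k) := by
        have := (rp_simple cs R.nsys i).inv.mul hk
        rwa [inv_simple, simple_mul_simple_cancel_left] at this
      have h2 := ih (fun l hl => hω l (by simp [hl])) _ h1 (g * n i)
      have h3 : g * n i * ((n i)⁻¹ * k) = g * k := by group
      rw [← h3, h2]
      rcases nonneg_or_nonpos cs h (wOf R hG g) i with h0 | h0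
      · have h4 := stY_pos R hG t h0 (one_mem (X (sr i)))
        rw [mul_one] at h4
        rw [h4, t.cls_st i hi]
      · obtain ⟨x₀, hx₀, h4, h5⟩ := stY_neg R hG t h0
        by_cases h6 : (1 : Y) = x₀
        · rw [← h6, mul_one] at h4
          rw [h4, t.cls_st i hi]
        · have h7 := h5 1 (one_mem _) h6
          rw [mul_one] at h7
          rw [h7]
  obtain ⟨v, hv, b₁, hb₁, k, hk, b₂, hb₂, rfl⟩ := (mem_PJ_iff_cell R).1 hy
  rw [← mul_assoc, stY_mul_right_B R hG t _ hb₂, ← mul_assoc, key v hv k hk, stY_mul_right_B R hG t _ hb₁]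

/-- bi-invariant functions are functions of the class of the state -/
theorem exists_fun (F : Y → ℚ) (hl : ∀ y ∈ PJ cs h T X {i | c i = 0}, ∀ g, F (y * g) = F g)
    (hr : ∀ y ∈ PJ cs h T X {i | c i = 0}, ∀ g, F (g * y) = F g) :
    ∃ b : Fin m → ℚ, ∀ g, F g = b (t.cls (stY R hG t g)) := by
  choose k hk using fun w : W => exists_rp cs R.nsys w
  choose r hr' using fun c : Fin m => t.exists_sw cs h (t.crep c)
  refine ⟨fun c => F (k (r c)), fun g => ?_⟩
  -- the value at `g` is the value at the representative of the Weyl group element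
  have h1 : ∀ (w : W) (g : Y), Cell R.nsys cs h X w g → F g = F (k w) := by
    rintro w g ⟨b₁, hb₁, l, hl', b₂, hb₂, rfl⟩
    rw [hr _ (B_le_PJ hb₂), hl _ (B_le_PJ hb₁)]
    have h2 : l = k w * ((k w)⁻¹ * l) := by group
    rw [h2, hr _ (B_le_PJ (RGD.T_le_B ((hk w).unique hl')))]
  rw [h1 _ g (cell_wOf R hG g)]
  obtain ⟨v, hv, u, hu, e⟩ := Tab.exists_word cs h t (hr' (t.cls (stY R hG t g))) (w' := wOf R hG g) rfl
  have h3 : Rp cs R.nsys (u * r (t.cls (stY R hG t g)) * v) (k u * k (r (t.cls (stY R hG t g))) * k v) :=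
    ((hk u).mul (hk _)).mul (hk v)
  rw [e, ← h1 _ _ (cell_of_rp h3), hr _ (LJ_le_PJ (rp_mem_LJ R hv (hk v))),
    hl _ (LJ_le_PJ (rp_mem_LJ R hu (hk u)))]

section Op

variable [Finite Y] (q : I → ℕ) (hq : ∀ i, Nat.card (X (sr i)) = q i)

include hq in
/-- **the key lemma**: `T_i` on the functions of the state -/
theorem opT_stY (i : I) (φ : Fin N → ℚ) :
    opT X n i (fun g => φ (stY R hG t g)) = fun g => t.tau q i φ (stY R hG t g) := by
  classical
  have := Fintype.ofFinite (X (sr i))
  funext g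
  rw [opT_apply, finsum_eq_sum_of_fintype]
  have hcard : (Fintype.card (X (sr i)) : ℚ) = q i := by rw [← hq, Nat.card_eq_fintype_card]
  rcases nonneg_or_nonpos cs h (wOf R hG g) i with h0 | h0
  · have h1 : ∀ x : X (sr i), φ (stY R hG t (g * x * n i)) = φ (t.st i (stY R hG t g)) := fun x => by
      rw [stY_pos R hG t h0 x.2]
    rw [Finset.sum_congr rfl fun x _ => h1 x, Finset.sum_const, Finset.card_univ, nsmul_eq_mul, hcard, Tab.tau,
      if_neg]
    rw [not_lt]
    exact vec_nonneg R hG t h0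
  · obtain ⟨x₀, hx₀, h1, h2⟩ := stY_neg R hG t h0
    have h3 : ∑ x : X (sr i), φ (stY R hG t (g * x * n i)) =
        φ (t.st i (stY R hG t g)) + ((q i : ℚ) - 1) * φ (stY R hG t g) := by
      rw [← Finset.add_sum_erase _ _ (Finset.mem_univ (⟨x₀, hx₀⟩ : X (sr i)))]
      congr 1
      · exact congrArg φ h1
      · have h4 : ∀ x ∈ Finset.univ.erase (⟨x₀, hx₀⟩ : X (sr i)),
            φ (stY R hG t (g * x * n i)) = φ (stY R hG t g) := fun x hx => by
          rw [h2 x x.2 fun h5 => Finset.ne_of_mem_erase hx (Subtype.ext h5)]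
        rw [Finset.sum_congr rfl h4, Finset.sum_const, Finset.card_erase_of_mem (Finset.mem_univ _),
          Finset.card_univ, nsmul_eq_mul, Nat.cast_sub Fintype.card_pos, hcard, Nat.cast_one]
    rw [h3, Tab.tau]
    split_ifs with h5
    · rfl
    · have h6 : t.vec (stY R hG t g) i = 0 := le_antisymm (vec_nonpos R hG t h0) (not_lt.1 h5)
      rw [Tab.st_eq_of_zero cs h t h6]
      ring

end Op

section Count

variable [Fintype Y] (q : I → ℕ) (hq : ∀ i, Nat.card (X (sr i)) = q i)

/-- The number of elements of a given state. -/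
noncomputable def cnt (s : Fin N) : ℚ := ∑ g, (Pi.single s (1 : ℚ) : Fin N → ℚ) (stY R hG t g)

include hq in
theorem cnt_st {i : I} {s : Fin N} (hs : 0 < t.vec s i) : cnt R hG t (t.st i s) = q i * cnt R hG t s := by
  have h1 := sum_opT (X := X) (n := n) q hq i (fun g => (Pi.single s (1 : ℚ) : Fin N → ℚ) (stY R hG t g))
  rw [opT_stY R hG t q hq] at h1
  rw [cnt, cnt, ← h1]
  refine Finset.sum_congr rfl fun g _ => ?_
  beta_reduce
  generalize stY R hG t g = u
  unfold Tab.tau
  have h2 : t.vec u i < 0 → u ≠ s := by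
    rintro h3 rfl
    omega
  by_cases hu : u = t.st i s
  · subst hu
    have h3 : t.vec (t.st i s) i < 0 := by
      rw [Tab.vec_st_self cs h t]
      omega
    rw [if_pos h3, Tab.st_st cs h t, Pi.single_eq_same, Pi.single_eq_same, Pi.single_eq_of_ne (h2 h3), mul_zero,
      add_zero]
  · have h4 : t.st i u ≠ s := by
      intro h5
      apply hu
      rw [← h5, Tab.st_st cs h t]
    rw [Pi.single_eq_of_ne hu, Pi.single_eq_of_ne h4]
    split_ifs with h5
    · rw [Pi.single_eq_of_ne (h2 h5), mul_zero, add_zero]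
    · rw [mul_zero]

include hq in
theorem cnt_eq (wt : Fin N → ℕ) (hw : wt t.o = 1) (hws : ∀ i s, 0 < t.vec s i → wt (t.st i s) = q i * wt s)
    (s : Fin N) : cnt R hG t s = wt s * cnt R hG t t.o := by
  have hq0 : ∀ i, (q i : ℚ) ≠ 0 := fun i => by
    rw [← hq i]
    exact Nat.cast_ne_zero.2 Nat.card_pos.ne'
  have key : ∀ ω : List I, cnt R hG t (ω.foldl (fun b i => t.st i b) t.o) =
      wt (ω.foldl (fun b i => t.st i b) t.o) * cnt R hG t t.o := by
    intro ω
    induction ω using List.reverseRecOn with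
    | nil => rw [List.foldl_nil, hw, Nat.cast_one, one_mul]
    | append_singleton ω i ih =>
      rw [List.foldl_append, List.foldl_cons, List.foldl_nil]
      generalize ω.foldl (fun b i => t.st i b) t.o = u at ih ⊢
      rcases lt_trichotomy (t.vec u i) 0 with h1 | h1 | h1
      · have h2 : 0 < t.vec (t.st i u) i := by
          rw [Tab.vec_st_self cs h t]
          omega
        have h3 := cnt_st R hG t q hq h2
        have h4 := hws i (t.st i u) h2
        rw [Tab.st_st cs h t] at h3 h4
        rw [h3, h4, Nat.cast_mul, mul_assoc] at ih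
        exact mul_left_cancel₀ (hq0 i) ih
      · rw [Tab.st_eq_of_zero cs h t h1]
        exact ih
      · rw [cnt_st R hG t q hq h1, ih, hws i u h1, Nat.cast_mul, mul_assoc]
  have h1 := key (t.path s)
  rwa [t.path_spec] at h1

theorem sum_stY (φ : Fin N → ℚ) : ∑ g, φ (stY R hG t g) = ∑ s, φ s * cnt R hG t s := by
  have h1 : ∀ g, φ (stY R hG t g) = ∑ s, φ s * (Pi.single s (1 : ℚ) : Fin N → ℚ) (stY R hG t g) := by
    intro g
    rw [Finset.sum_eq_single (stY R hG t g)]
    · rw [Pi.single_eq_same, mul_one]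
    · intro s _ hs
      rw [Pi.single_eq_of_ne (Ne.symm hs), mul_zero]
    · exact fun h1 => absurd (Finset.mem_univ _) h1
  rw [Finset.sum_congr rfl fun g _ => h1 g, Finset.sum_comm]
  refine Finset.sum_congr rfl fun s _ => ?_
  rw [cnt, Finset.mul_sum]

theorem cnt_o : cnt R hG t t.o = Nat.card (PJ cs h T X {i | c i = 0}) := by
  classical
  rw [cnt]
  have h1 : ∀ g, (Pi.single t.o (1 : ℚ) : Fin N → ℚ) (stY R hG t g) =
      if g ∈ PJ cs h T X {i | c i = 0} then 1 else 0 := by
    intro g
    split_ifs with h2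
    · rw [(stY_eq_o_iff R hG t).2 h2, Pi.single_eq_same]
    · rw [Pi.single_eq_of_ne]
      exact fun h3 => h2 ((stY_eq_o_iff R hG t).1 h3)
  rw [Finset.sum_congr rfl fun g _ => h1 g, Finset.sum_boole, Nat.card_eq_fintype_card, Fintype.card_subtype]

include hq in
/-- the sum over the points of a function of the class -/
theorem sum_quot (wt : Fin N → ℕ) (hw : wt t.o = 1) (hws : ∀ i s, 0 < t.vec s i → wt (t.st i s) = q i * wt s)
    (φ : Fin N → ℚ) (f : Y ⧸ PJ cs h T X {i | c i = 0} → ℚ) (hf : ∀ g : Y, f g = φ (stY R hG t g))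
    [Fintype (Y ⧸ PJ cs h T X {i | c i = 0})] : ∑ x, f x = ∑ s, wt s * φ s := by
  classical
  have hc0 : (Nat.card (PJ cs h T X {i | c i = 0}) : ℚ) ≠ 0 := Nat.cast_ne_zero.2 Nat.card_pos.ne'
  have h1 : ∑ g, φ (stY R hG t g) = Nat.card (PJ cs h T X {i | c i = 0}) * ∑ x, f x := by
    rw [Finset.sum_congr rfl fun g _ => (hf g).symm]
    rw [← Finset.sum_fiberwise Finset.univ (fun g : Y => (g : Y ⧸ PJ cs h T X {i | c i = 0})), Finset.mul_sum]
    refine Finset.sum_congr rfl fun x _ => ?_
    have h2 : ∀ g ∈ Finset.univ.filter (fun g : Y => (g : Y ⧸ PJ cs h T X {i | c i = 0}) = x), f g = f x := by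
      intro g hg
      rw [(Finset.mem_filter.1 hg).2]
    rw [Finset.sum_congr rfl h2, Finset.sum_const, nsmul_eq_mul]
    congr 1
    rw [Nat.cast_inj]
    induction x using Quotient.inductionOn' with
    | h y =>
      have h3 : Finset.univ.filter (fun g : Y => (g : Y ⧸ PJ cs h T X {i | c i = 0}) = Quotient.mk'' y) =
          Finset.univ.image (fun x : PJ cs h T X {i | c i = 0} => y * x) := by
        ext g
        rw [Finset.mem_filter, Finset.mem_image]
        constructor
        · rintro ⟨-, h4⟩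
          have h5 : y⁻¹ * g ∈ PJ cs h T X {i | c i = 0} := QuotientGroup.eq.1 h4.symm
          exact ⟨⟨_, h5⟩, Finset.mem_univ _, by simp⟩
        · rintro ⟨x, -, rfl⟩
          exact ⟨Finset.mem_univ _, (QuotientGroup.eq.2 (by simp)).symm⟩
      rw [h3, Finset.card_image_of_injective _ (fun a b hab => Subtype.ext (mul_left_cancel hab)), Finset.card_univ,
        Nat.card_eq_fintype_card]
  rw [sum_stY, Finset.sum_congr rfl fun s _ => by rw [cnt_eq R hG t q hq wt hw hws s, cnt_o], ] at h1
  have h2 : ∑ s, φ s * (wt s * (Nat.card (PJ cs h T X {i | c i = 0}) : ℚ)) =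
      Nat.card (PJ cs h T X {i | c i = 0}) * ∑ s, wt s * φ s := by
    rw [Finset.mul_sum]
    exact Finset.sum_congr rfl fun s _ => by ring
  rw [h2] at h1
  exact (mul_left_cancel₀ hc0 h1).symm

end Count

end Group

end Cfsg.Agent.H423.PQ.Co
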