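import Cfsg.Agent.H423.PQ.CoTabE8a
import Cfsg.Agent.H632.PQ.TabE8n

/-!
# `E₈`, node `1`, the character `175`: the certificate (helper423, for S4612; made by a program)

Degree `1/3 q⁸ P5² P7 P9 P10² P12² P14 P15 P18 P20 P24 P30`; `(χ - 1) / P4`.
-/

set_option autoImplicit false
set_option maxRecDepth 20000
set_option maxHeartbeats 4000000

namespace Cfsg.Agent.H423.PQ.CoTabE8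

open Cfsg.Agent.H423.PQ.Co Cfsg.Agent.H632.PQ.TabE8n
open Cfsg.Agent.H64.Dl.Sph (pAdd pShift pNeg pZero pEq)
open Cfsg.Agent.H996.Eight.Cert (pScale pMul pPos pSum pDvd Crt)
open Cfsg.Agent.H996.PQ (ok1)
open Cfsg.Agent.H996.PQ.Big Cfsg.Agent.H996.PQ.Kr
open Cfsg.Agent.H632.PQ.Fast (entF stF)

/-- the spherical function -/
def crt : Crt 35 where
  th := [-1, 0, -1, -1, -1, -1, -1, -1, 0, -1]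
  nu c := nuL.getD c []
  steps := []
  dn := [0, 0, 0, 0, 0, 0, 0, 0, 1, 0, -1, 0, 2, 0, 2, 0, 0, 0, 4, 0, 7, 0, 0, 0, 12, 0, 10, 0, 6, 0, 19, 0, 18, 0, 9,
    0, 32, 0, 20, 0, 18, 0, 37, 0, 25, 0, 20, 0, 43, 0, 20, 0, 25, 0, 37, 0, 18, 0, 20, 0, 32, 0, 9, 0, 18, 0, 19,
    0, 6, 0, 10, 0, 12, 0, 0, 0, 7, 0, 4, 0, 0, 0, 2, 0, 2, 0, -1, 0, 1]
  den := 3

theorem crt_ok : ok1 crt 0 bb kk := ok1_of_okK (X := 0x10000000000000000) (by decide +kernel)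

theorem crt_dvd : pDvd crt.den crt.dn := by decide +kernel

theorem row0 : pPos (bb 0 1) = true ∧ ∀ c' : Fin 35, c' ≠ 1 → c' ≠ 0 → pZero (bb 0 c') = true := by decide +kernel

/-- the local conditions -/
noncomputable def L (b : Bool) : LocN (ofSph data.t) (Fin 16) :=
  match b with
  | false => okd0.of_fast.locN okB hA2
  | true => okd1.of_fast.locN okB hA2

theorem chkL (b : Bool) (s : Fin 17280) (hs : ∀ i ∈ (L b).J', 0 ≤ data.t.vec s i) :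
    pZero (pSum fun a : Fin 16 => pShift (data.wl ((L b).us a))
      (crt.nu (data.t.cls (((L b).wd a).foldl (fun b i => data.t.st i b) s)))) = true :=
  match b, hs with
  | false, hs => okd0.of_fast.chkL okB hA2 hV (by norm_num) nu0 s hs
  | true, hs => okd1.of_fast.chkL okB hA2 hV (by norm_num) nu1 s hs

theorem chkU (c : Fin 35) (b : Bool) (h : (bif b
    then d1.tU (entF B) (stF B) ord 17280 16 c (detS.getD c 0)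
    else d0.tU (entF B) (stF B) ord 17280 16 c (detS.getD c 0)) = true) :
    (∀ i ∈ (L b).J', 0 ≤ data.t.vec (Fin.ofNat 17280 (detS.getD c 0)) i) ∧
    (∀ a : Fin 16, data.t.cls (((L b).wd a).foldl (fun b i => data.t.st i b) (Fin.ofNat 17280 (detS.getD c 0))) = c ∨
      ord (data.t.cls (((L b).wd a).foldl (fun b i => data.t.st i b) (Fin.ofNat 17280 (detS.getD c 0)))) < ord c) ∧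
    ∃ a : Fin 16, data.t.cls (((L b).wd a).foldl (fun b i => data.t.st i b)
      (Fin.ofNat 17280 (detS.getD c 0))) = c :=
  match b, h with
  | false, h => okd0.of_fast.chkU okB hA2 h
  | true, h => okd1.of_fast.chkU okB hA2 h

/-- **The certificate.** -/
noncomputable def cert : LCert data where
  κ := Bool
  n := 16
  L := L
  C := crt
  c₁ := 1
  ord c := ord c
  det c := (detB.getD c false, Fin.ofNat 17280 (detS.getD c 0))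
  ok := by
    rw [cls_o]
    exact crt_ok
  dvd := crt_dvd
  chkL := chkL
  chk1 := by
    rw [cls_o]
    exact row0
  chkU c h0 h1 := by
    rw [cls_o] at h0
    rcases det_ok c with h2 | h2 | h2
    · exact absurd h2 h0
    · exact absurd h2 h1
    · exact chkU c _ h2

/-- the eigenvalues of the double cosets -/
def lamL : List (List ℤ) :=
  [[1],
  [-1, 0, -1, -1, -1, -1, -1, -1, 0, -1],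
  [0, 0, 1, 1, 2, 2, 3, 3, 3, 3, 2, 2, 1, 1],
  [0, 0, 0, 0, -1, -1, -2, -2, -3, -2, -3, -2, -1, -1, 0, 0, 1, 0, 1],
  [0, 0, 0, 0, 0, 0, -1, -1, -1, -1, -1, -1, -1, -1],
  [0, 0, 0, 0, 0, 0, 1, 1, 1, 1, 0, -1, -2, -3, -5, -5, -5, -5, -4, -3, -2, -1],
  [0, 0, 0, 0, 0, 0, 0, 0, 0, 0, 0, 0, -1, 0, -1, 0, -1, 0, -1],
  [0, 0, 0, 0, 0, 0, 0, 0, 0, 0, 1, 2, 4, 5, 7, 8, 9, 9, 8, 7, 5, 4, 2, 1],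
  [0, 0, 0, 0, 0, 0, 0, 0, 0, 0, 1, 1, 2, 2, 3, 3, 3, 3, 2, 2, 1, 1],
  [0, 0, 0, 0, 0, 0, 0, 0, 0, 0, 1, 1, 2, 2, 3, 3, 3, 3, 2, 2, 1, 1],
  [0, 0, 0, 0, 0, 0, 0, 0, 0, 0, -1, -2, -4, -5, -7, -7, -8, -7, -6, -4, -2, -1, 1, 1, 2, 1, 1],
  [0, 0, 0, 0, 0, 0, 0, 0, 0, 0, 0, 0, -1, -1, -2, -3, -4, -4, -5, -5, -4, -4, -3, -2, -1, -1],
  [0, 0, 0, 0, 0, 0, 0, 0, 0, 0, 0, 0, 1, 1, 2, 1, 1, -1, -2, -4, -6, -7, -8, -7, -7, -5, -4, -2, -1],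
  [0, 0, 0, 0, 0, 0, 0, 0, 0, 0, 0, 0, 0, 0, 0, -1, -1, -2, -2, -3, -3, -3, -3, -2, -2, -1, -1],
  [0, 0, 0, 0, 0, 0, 0, 0, 0, 0, 0, 0, 0, 0, 0, -1, -1, -2, -2, -3, -3, -3, -3, -2, -2, -1, -1],
  [0, 0, 0, 0, 0, 0, 0, 0, 0, 0, 0, 0, 0, 0, 0, 1, 2, 4, 6, 8, 10, 11, 12, 11, 10, 8, 6, 4, 2, 1],
  [0, 0, 0, 0, 0, 0, 0, 0, 0, 0, 0, 0, 0, 0, 0, 1, 2, 4, 6, 8, 10, 11, 12, 11, 10, 8, 6, 4, 2, 1],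
  [0, 0, 0, 0, 0, 0, 0, 0, 0, 0, 0, 0, 0, 0, 0, 0, 0, 0, 1, 0, 1, 0, 2, 0, 1, 0, 1],
  [0, 0, 0, 0, 0, 0, 0, 0, 0, 0, 0, 0, 0, 0, 0, 0, -1, -2, -4, -5, -7, -7, -8, -7, -6, -4, -2, -1, 1, 1, 2, 1, 1],
  [0, 0, 0, 0, 0, 0, 0, 0, 0, 0, 0, 0, 0, 0, 0, 0, 0, 0, 1, 1, 1, 1, 1, 1, 1, 1],
  [0, 0, 0, 0, 0, 0, 0, 0, 0, 0, 0, 0, 0, 0, 0, 0, 0, 0, -1, -1, -2, -2, -3, -3, -3, -3, -2, -2, -1, -1],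
  [0, 0, 0, 0, 0, 0, 0, 0, 0, 0, 0, 0, 0, 0, 0, 0, 0, 0, -1, -1, -2, -2, -3, -3, -3, -3, -2, -2, -1, -1],
  [0, 0, 0, 0, 0, 0, 0, 0, 0, 0, 0, 0, 0, 0, 0, 0, 0, 0, 0, 1, 1, 1, 1, 1, 1, 1, 1],
  [0, 0, 0, 0, 0, 0, 0, 0, 0, 0, 0, 0, 0, 0, 0, 0, 0, 0, 1, 1, 2, 1, 1, -1, -2, -4, -6, -7, -8, -7, -7, -5, -4,
    -2, -1],
  [0, 0, 0, 0, 0, 0, 0, 0, 0, 0, 0, 0, 0, 0, 0, 0, 0, 0, 0, -1, -1, -2, -3, -4, -4, -5, -5, -4, -4, -3, -2, -1, -1],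
  [0, 0, 0, 0, 0, 0, 0, 0, 0, 0, 0, 0, 0, 0, 0, 0, 0, 0, 0, 0, 0, 1, 2, 4, 5, 7, 8, 9, 9, 8, 7, 5, 4, 2, 1],
  [0, 0, 0, 0, 0, 0, 0, 0, 0, 0, 0, 0, 0, 0, 0, 0, 0, 0, 0, 0, 0, 0, 0, 1, 1, 2, 2, 3, 3, 3, 3, 2, 2, 1, 1],
  [0, 0, 0, 0, 0, 0, 0, 0, 0, 0, 0, 0, 0, 0, 0, 0, 0, 0, 0, 0, 0, 0, 0, 1, 1, 2, 2, 3, 3, 3, 3, 2, 2, 1, 1],
  [0, 0, 0, 0, 0, 0, 0, 0, 0, 0, 0, 0, 0, 0, 0, 0, 0, 0, 0, 0, 0, 0, 0, -1, -2, -3, -4, -5, -5, -5, -5, -3, -2,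
    -1, 0, 1, 1, 1, 1],
  [0, 0, 0, 0, 0, 0, 0, 0, 0, 0, 0, 0, 0, 0, 0, 0, 0, 0, 0, 0, 0, 0, 0, 0, 0, 0, -1, 0, -1, 0, -1, 0, -1],
  [0, 0, 0, 0, 0, 0, 0, 0, 0, 0, 0, 0, 0, 0, 0, 0, 0, 0, 0, 0, 0, 0, 0, 0, 0, 0, 1, 0, 1, 0, 0, -1, -1, -2, -3,
    -2, -3, -2, -2, -1, -1],
  [0, 0, 0, 0, 0, 0, 0, 0, 0, 0, 0, 0, 0, 0, 0, 0, 0, 0, 0, 0, 0, 0, 0, 0, 0, 0, 0, 0, 0, 0, 0, -1, -1, -1, -1,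
    -1, -1, -1, -1],
  [0, 0, 0, 0, 0, 0, 0, 0, 0, 0, 0, 0, 0, 0, 0, 0, 0, 0, 0, 0, 0, 0, 0, 0, 0, 0, 0, 0, 0, 0, 0, 1, 1, 2, 2, 3, 3,
    3, 3, 2, 2, 1, 1],
  [0, 0, 0, 0, 0, 0, 0, 0, 0, 0, 0, 0, 0, 0, 0, 0, 0, 0, 0, 0, 0, 0, 0, 0, 0, 0, 0, 0, 0, 0, 0, 0, 0, 0, 0, -1, 0,
    -1, -1, -1, -1, -1, -1, 0, -1],
  [0, 0, 0, 0, 0, 0, 0, 0, 0, 0, 0, 0, 0, 0, 0, 0, 0, 0, 0, 0, 0, 0, 0, 0, 0, 0, 0, 0, 0, 0, 0, 0, 0, 0, 0, 0, 0,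
    0, 0, 0, 0, 0, 0, 0, 1]]

/-- `(χ - 1) / P4` -/
def g4L : List (List ℤ) :=
  [[],
  [-1, -1, -1, -2, -3, -3, -3, -4, -3, -3, -3, -2, -1, -1, -1],
  [0, 0, 1, 1, 1, 1, 1, 0, -2, -4, -7, -9, -12, -14, -15, -15, -14, -12, -10, -8, -5, -3, -2, -1],
  [0, 0, 0, 0, -1, -1, -1, -1, -2, -1, -1, -2, -2, -4, -7, -11, -14, -20, -24, -27, -29, -29, -27, -24, -20, -15,
    -11, -7, -4, -2, -1],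
  [0, 0, 0, 0, 0, 0, -1, -1, 0, 0, -1, -1, 0, 0, 0, -1, -2, -2, -2, -3, -4, -4, -3, -2, -2, -2, -1],
  [0, 0, 0, 0, 0, 0, 1, 1, 0, 0, 0, -1, -2, -2, -3, -3, -3, -5, -8, -12, -18, -26, -35, -44, -51, -56, -58, -56,
    -51, -44, -35, -26, -18, -11, -6, -3, -1],
  [0, 0, 0, 0, 0, 0, 0, 0, 0, 0, 0, 0, -1, 0, 0, 0, -1, 0, 0, 0, 0, -1, -1, -1, -1, -2, -2, -2, -1, -1, -1, -1],
  [0, 0, 0, 0, 0, 0, 0, 0, 0, 0, 1, 2, 3, 3, 4, 5, 5, 4, 3, 3, 2, 1, -1, -3, -6, -10, -16, -23, -30, -36, -41,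
    -44, -44, -41, -36, -30, -23, -16, -10, -6, -3, -1],
  [0, 0, 0, 0, 0, 0, 0, 0, 0, 0, 1, 1, 1, 1, 2, 2, 1, 1, 1, 1, 0, 0, -1, -2, -3, -5, -8, -10, -12, -14, -15, -15,
    -14, -12, -10, -8, -5, -3, -2, -1],
  [0, 0, 0, 0, 0, 0, 0, 0, 0, 0, 1, 1, 1, 1, 2, 2, 1, 1, 1, 1, 0, 0, -1, -2, -3, -5, -8, -10, -12, -14, -15, -15,
    -14, -12, -10, -8, -5, -3, -2, -1],
  [0, 0, 0, 0, 0, 0, 0, 0, 0, 0, -1, -2, -3, -3, -4, -4, -4, -3, -2, -1, 0, 0, 1, 1, 1, -1, -3, -7, -13, -22, -33,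
    -46, -59, -71, -80, -85, -85, -80, -71, -59, -46, -33, -22, -13, -7, -3, -1],
  [0, 0, 0, 0, 0, 0, 0, 0, 0, 0, 0, 0, -1, -1, -1, -2, -3, -2, -2, -3, -2, -1, -1, -1, 0, 0, 0, 0, 0, -1, -2, -3,
    -5, -8, -10, -12, -14, -15, -15, -14, -12, -10, -8, -5, -3, -2, -1],
  [0, 0, 0, 0, 0, 0, 0, 0, 0, 0, 0, 0, 1, 1, 1, 0, 0, -1, -2, -3, -4, -4, -4, -3, -3, -2, -1, 0, 0, 0, -1, -3, -7,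
    -13, -22, -33, -46, -59, -71, -80, -85, -85, -80, -71, -59, -46, -33, -22, -13, -7, -3, -1],
  [0, 0, 0, 0, 0, 0, 0, 0, 0, 0, 0, 0, 0, 0, 0, -1, -1, -1, -1, -2, -2, -1, -1, -1, -1, 0, 0, 0, 0, 0, 0, 0, -1,
    -2, -3, -4, -6, -8, -9, -9, -9, -9, -8, -6, -4, -3, -2, -1],
  [0, 0, 0, 0, 0, 0, 0, 0, 0, 0, 0, 0, 0, 0, 0, -1, -1, -1, -1, -2, -2, -1, -1, -1, -1, 0, 0, 0, 0, 0, 0, 0, -1,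
    -2, -3, -4, -6, -8, -9, -9, -9, -9, -8, -6, -4, -3, -2, -1],
  [0, 0, 0, 0, 0, 0, 0, 0, 0, 0, 0, 0, 0, 0, 0, 1, 2, 3, 4, 5, 6, 6, 6, 5, 4, 3, 2, 1, 0, 0, 0, 0, 0, 0, 0, -1,
    -3, -6, -11, -18, -26, -35, -44, -51, -56, -58, -56, -51, -44, -35, -26, -18, -11, -6, -3, -1],
  [0, 0, 0, 0, 0, 0, 0, 0, 0, 0, 0, 0, 0, 0, 0, 1, 2, 3, 4, 5, 6, 6, 6, 5, 4, 3, 2, 1, 0, 0, 0, 0, 0, 0, 0, -1,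
    -3, -6, -11, -18, -26, -35, -44, -51, -56, -58, -56, -51, -44, -35, -26, -18, -11, -6, -3, -1],
  [0, 0, 0, 0, 0, 0, 0, 0, 0, 0, 0, 0, 0, 0, 0, 0, 0, 0, 1, 0, 0, 0, 2, 0, -1, 0, 2, 0, -2, 0, 2, 0, -2, 0, 2, 0,
    -2, 0, 1, -1, -3, -2, -2, -3, -5, -4, -3, -3, -4, -2, -1, -1, -1],
  [0, 0, 0, 0, 0, 0, 0, 0, 0, 0, 0, 0, 0, 0, 0, 0, -1, -2, -3, -3, -4, -4, -4, -3, -2, -1, 0, 0, 1, 1, 1, 0, 0, 0,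
    0, 0, 0, 0, 0, -1, -3, -7, -13, -22, -33, -46, -59, -71, -80, -85, -85, -80, -71, -59, -46, -33, -22, -13, -7,
    -3, -1],
  [0, 0, 0, 0, 0, 0, 0, 0, 0, 0, 0, 0, 0, 0, 0, 0, 0, 0, 1, 1, 0, 0, 1, 1, 0, 0, 0, 0, 0, 0, 0, 0, 0, 0, 0, 0, 0,
    0, 0, 0, 0, 0, -1, -1, 0, 0, -1, -1],
  [0, 0, 0, 0, 0, 0, 0, 0, 0, 0, 0, 0, 0, 0, 0, 0, 0, 0, -1, -1, -1, -1, -2, -2, -1, -1, -1, -1, 0, 0, 0, 0, 0, 0,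
    0, 0, 0, 0, 0, 0, 0, 0, 0, -1, -2, -3, -4, -6, -8, -9, -9, -9, -9, -8, -6, -4, -3, -2, -1],
  [0, 0, 0, 0, 0, 0, 0, 0, 0, 0, 0, 0, 0, 0, 0, 0, 0, 0, -1, -1, -1, -1, -2, -2, -1, -1, -1, -1, 0, 0, 0, 0, 0, 0,
    0, 0, 0, 0, 0, 0, 0, 0, 0, -1, -2, -3, -4, -6, -8, -9, -9, -9, -9, -8, -6, -4, -3, -2, -1],
  [0, 0, 0, 0, 0, 0, 0, 0, 0, 0, 0, 0, 0, 0, 0, 0, 0, 0, 0, 1, 1, 0, 0, 1, 1, 0, 0, 0, 0, 0, 0, 0, 0, 0, 0, 0, 0,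
    0, 0, 0, 0, 0, 0, -1, -1, 0, 0, -1, -1],
  [0, 0, 0, 0, 0, 0, 0, 0, 0, 0, 0, 0, 0, 0, 0, 0, 0, 0, 1, 1, 1, 0, 0, -1, -2, -3, -4, -4, -4, -3, -3, -2, -1, 0,
    0, 0, 0, 0, 0, 0, 0, 0, 0, 0, -1, -3, -7, -13, -22, -33, -46, -59, -71, -80, -85, -85, -80, -71, -59, -46, -33,
    -22, -13, -7, -3, -1],
  [0, 0, 0, 0, 0, 0, 0, 0, 0, 0, 0, 0, 0, 0, 0, 0, 0, 0, 0, -1, -1, -1, -2, -3, -2, -2, -3, -2, -1, -1, -1, 0, 0,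
    0, 0, 0, 0, 0, 0, 0, 0, 0, 0, 0, -1, -2, -3, -5, -8, -10, -12, -14, -15, -15, -14, -12, -10, -8, -5, -3, -2, -1],
  [0, 0, 0, 0, 0, 0, 0, 0, 0, 0, 0, 0, 0, 0, 0, 0, 0, 0, 0, 0, 0, 1, 2, 3, 3, 4, 5, 5, 4, 3, 3, 2, 1, 0, 0, 0, 0,
    0, 0, 0, 0, 0, 0, 0, 0, 0, 0, 0, 0, -1, -3, -6, -10, -16, -23, -30, -36, -41, -44, -44, -41, -36, -30, -23,
    -16, -10, -6, -3, -1],
  [0, 0, 0, 0, 0, 0, 0, 0, 0, 0, 0, 0, 0, 0, 0, 0, 0, 0, 0, 0, 0, 0, 0, 1, 1, 1, 1, 2, 2, 1, 1, 1, 1, 0, 0, 0, 0,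
    0, 0, 0, 0, 0, 0, 0, 0, 0, 0, 0, 0, 0, 0, -1, -2, -3, -5, -8, -10, -12, -14, -15, -15, -14, -12, -10, -8, -5,
    -3, -2, -1],
  [0, 0, 0, 0, 0, 0, 0, 0, 0, 0, 0, 0, 0, 0, 0, 0, 0, 0, 0, 0, 0, 0, 0, 1, 1, 1, 1, 2, 2, 1, 1, 1, 1, 0, 0, 0, 0,
    0, 0, 0, 0, 0, 0, 0, 0, 0, 0, 0, 0, 0, 0, -1, -2, -3, -5, -8, -10, -12, -14, -15, -15, -14, -12, -10, -8, -5,
    -3, -2, -1],
  [0, 0, 0, 0, 0, 0, 0, 0, 0, 0, 0, 0, 0, 0, 0, 0, 0, 0, 0, 0, 0, 0, 0, -1, -2, -2, -2, -3, -3, -2, -2, -1, 0, 0,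
    0, 1, 1, 0, 0, 0, 0, 0, 0, 0, 0, 0, 0, 0, 0, 0, 0, 0, 0, 0, -1, -3, -6, -11, -18, -26, -35, -44, -51, -56, -58,
    -56, -51, -44, -35, -26, -18, -11, -6, -3, -1],
  [0, 0, 0, 0, 0, 0, 0, 0, 0, 0, 0, 0, 0, 0, 0, 0, 0, 0, 0, 0, 0, 0, 0, 0, 0, 0, -1, 0, 0, 0, -1, 0, 0, 0, 0, 0,
    0, 0, 0, 0, 0, 0, 0, 0, 0, 0, 0, 0, 0, 0, 0, 0, 0, 0, 0, 0, 0, 0, 0, -1, -1, -1, -1, -2, -2, -2, -1, -1, -1, -1],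
  [0, 0, 0, 0, 0, 0, 0, 0, 0, 0, 0, 0, 0, 0, 0, 0, 0, 0, 0, 0, 0, 0, 0, 0, 0, 0, 1, 0, 0, 0, 0, -1, -1, -1, -2,
    -1, -1, -1, -1, 0, 0, 0, 0, 0, 0, 0, 0, 0, 0, 0, 0, 0, 0, 0, 0, 0, 0, 0, 0, 0, -1, -2, -4, -7, -11, -15, -20,
    -24, -27, -29, -29, -27, -24, -20, -15, -11, -7, -4, -2, -1],
  [0, 0, 0, 0, 0, 0, 0, 0, 0, 0, 0, 0, 0, 0, 0, 0, 0, 0, 0, 0, 0, 0, 0, 0, 0, 0, 0, 0, 0, 0, 0, -1, -1, 0, 0, -1,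
    -1, 0, 0, 0, 0, 0, 0, 0, 0, 0, 0, 0, 0, 0, 0, 0, 0, 0, 0, 0, 0, 0, 0, 0, 0, 0, 0, 0, -1, -2, -2, -2, -3, -4,
    -4, -3, -2, -2, -2, -1],
  [0, 0, 0, 0, 0, 0, 0, 0, 0, 0, 0, 0, 0, 0, 0, 0, 0, 0, 0, 0, 0, 0, 0, 0, 0, 0, 0, 0, 0, 0, 0, 1, 1, 1, 1, 2, 2,
    1, 1, 1, 1, 0, 0, 0, 0, 0, 0, 0, 0, 0, 0, 0, 0, 0, 0, 0, 0, 0, 0, 0, 0, 0, 0, 0, 0, 0, 0, -1, -2, -3, -5, -8,
    -10, -12, -14, -15, -15, -14, -12, -10, -8, -5, -3, -2, -1],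
  [0, 0, 0, 0, 0, 0, 0, 0, 0, 0, 0, 0, 0, 0, 0, 0, 0, 0, 0, 0, 0, 0, 0, 0, 0, 0, 0, 0, 0, 0, 0, 0, 0, 0, 0, -1, 0,
    0, -1, -1, 0, 0, -1, 0, 0, 0, 0, 0, 0, 0, 0, 0, 0, 0, 0, 0, 0, 0, 0, 0, 0, 0, 0, 0, 0, 0, 0, 0, 0, 0, 0, 0, 0,
    0, 0, 0, -1, -1, -1, -2, -3, -3, -3, -3, -3, -3, -2, -1, -1, -1],
  [0, 0, 0, 0, 0, 0, 0, 0, 0, 0, 0, 0, 0, 0, 0, 0, 0, 0, 0, 0, 0, 0, 0, 0, 0, 0, 0, 0, 0, 0, 0, 0, 0, 0, 0, 0, 0,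
    0, 0, 0, 0, 0, 0, 0, 1, 0, -1, 0, 1, 0, -1, 0, 1, 0, -1, 0, 1, 0, -1, 0, 1, 0, -1, 0, 1, 0, -1, 0, 1, 0, -1, 0,
    1, 0, -1, 0, 1, 0, -1, 0, 1, 0, -1, 0, 1, 0, -1, 0, 1, 0, -1]]

theorem lam_ok : ∀ c : Fin 35, pEq (pMul (lamL.getD c []) (crt.nu 0)) (pMul (kk c) (crt.nu c)) = true := by
  decide +kernel

theorem g4_ok : ∀ c : Fin 35, pEq (pAdd (lamL.getD c []) (pNeg (kk c))) (pMul [1, 0, 1] (g4L.getD c [])) = true := by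
  decide +kernel

/-- **the character is congruent to `1` modulo `P4`** -/
def sl4 : cert.Sl [1, 0, 1] where
  lam c := lamL.getD c []
  gg c := g4L.getD c []
  h1 c := by
    rw [cls_o]
    exact lam_ok c
  h2 c := g4_ok c

/-- the cofactor of `P12²` in the degree -/
def q12 : List ℤ := [0, 0, 0, 0, 0, 0, 0, 0, 1, 0, 1, 0, 1, 0, 3, 0, 4, 0, 4, 0, 8, 0, 9, 0, 10, 0, 15, 0, 16, 0, 17, 0, 24, 0, 23,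
    0, 24, 0, 30, 0, 28, 0, 28, 0, 33, 0, 28, 0, 28, 0, 30, 0, 24, 0, 23, 0, 24, 0, 17, 0, 16, 0, 15, 0, 10, 0, 9,
    0, 8, 0, 4, 0, 4, 0, 3, 0, 1, 0, 1, 0, 1]

theorem q12_ok : pEq (pMul (pMul [1, 0, -1, 0, 1] [1, 0, -1, 0, 1]) q12) crt.dn = true := by decide +kernel

end Cfsg.Agent.H423.PQ.CoTabE8
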